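import Mathlib.LinearAlgebra.TensorProduct.Finiteness
import Mathlib.LinearAlgebra.TensorProduct.Pi
import Mathlib.LinearAlgebra.DirectSum.Finsupp
import Mathlib.Algebra.Module.Projective
import Mathlib.RingTheory.Finiteness.Cardinality

/-! # Coordinates on tensor products with projective modules -/

namespace Groth.Agent.ProjTensor

open TensorProduct

variable {R : Type*} [CommRing R] {M : Type*} [AddCommGroup M] [Module R M]

/-- The coordinate of an element of `M ⊗ N` along a functional. -/
noncomputable def coord (N : Type*) [AddCommGroup N] [Module R N] (f : M →ₗ[R] R) :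
    M ⊗[R] N →ₗ[R] N :=
  (TensorProduct.lid R N).toLinearMap ∘ₗ f.rTensor N

theorem coord_tmul {N : Type*} [AddCommGroup N] [Module R N] (f : M →ₗ[R] R) (m : M) (n : N) :
    coord N f (m ⊗ₜ n) = f m • n := by simp [coord]

theorem coord_lTensor {N N' : Type*} [AddCommGroup N] [Module R N] [AddCommGroup N'] [Module R N']
    (f : M →ₗ[R] R) (g : N →ₗ[R] N') (z : M ⊗[R] N) :
    coord N' f (g.lTensor M z) = g (coord N f z) := by
  induction z using TensorProduct.induction_on with
  | zero => simp
  | tmul m n => simp [coord_tmul]
  | add a b ha hb => simp only [map_add, ha, hb]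

theorem eq_zero_of_coord_eq_zero [Module.Projective R M] {N : Type*} [AddCommGroup N] [Module R N]
    {z : M ⊗[R] N} (h : ∀ f : M →ₗ[R] R, coord N f z = 0) : z = 0 := by
  classical
  obtain ⟨s, hs⟩ := Module.Projective.out (R := R) (P := M)
  have hinj : Function.Injective (s.rTensor N) := by
    refine Function.LeftInverse.injective (g := (Finsupp.linearCombination R id).rTensor N) fun x => ?_
    rw [← LinearMap.rTensor_comp_apply,
      show (Finsupp.linearCombination R id).comp s = LinearMap.id from LinearMap.ext hs,
      LinearMap.rTensor_id, LinearMap.id_apply]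
  refine hinj ((TensorProduct.finsuppScalarLeft R N M).injective ?_)
  rw [map_zero (s.rTensor N), map_zero]
  ext i
  rw [Finsupp.zero_apply, ← h ((Finsupp.lapply i).comp s)]
  clear h hinj
  induction z using TensorProduct.induction_on with
  | zero => simp
  | tmul m n => simp [coord_tmul]
  | add a b ha hb => simp only [map_add, Finsupp.add_apply, ha, hb]

theorem exists_dual_basis [Module.Finite R M] [Module.Projective R M] :
    ∃ (n : ℕ) (v : Fin n → M) (f : Fin n → M →ₗ[R] R), ∀ m, ∑ j, f j m • v j = m := by
  classical
  obtain ⟨n, r, hr⟩ := Module.Finite.exists_fin' R M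
  obtain ⟨s, hs⟩ := Module.projective_lifting_property r LinearMap.id hr
  refine ⟨n, fun j => r (Pi.single j 1), fun j => (LinearMap.proj j).comp s, fun m => ?_⟩
  simp only [LinearMap.comp_apply, LinearMap.proj_apply, ← map_smul, ← map_sum, ← Pi.single_smul',
    smul_eq_mul, mul_one, Finset.univ_sum_single]
  exact LinearMap.congr_fun hs m

theorem sum_tmul_coord {N : Type*} [AddCommGroup N] [Module R N] {n : ℕ} {v : Fin n → M}
    {f : Fin n → M →ₗ[R] R} (hv : ∀ m, ∑ j, f j m • v j = m) (w : M ⊗[R] N) :
    ∑ j, v j ⊗ₜ[R] coord N (f j) w = w := by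
  induction w using TensorProduct.induction_on with
  | zero => simp
  | tmul m x =>
    simp only [coord_tmul, TensorProduct.tmul_smul, TensorProduct.smul_tmul']
    rw [← TensorProduct.sum_tmul, hv]
  | add a b ha hb => simp only [map_add, TensorProduct.tmul_add, Finset.sum_add_distrib, ha, hb]

end Groth.Agent.ProjTensor
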